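import Cfsg.Agent.H996.Deg.GThree

/-!
# The one-dimensional character `a ↦ -1`, `b ↦ t` of the Hecke algebra of type `G₂` (helper377)

`a² = s + (s - 1) a`, `b² = t + (t - 1) b`, `(ab)³ = (ba)³`: `Ee s a b = ∑ (-1)^#a s^(3 - #a) w` satisfies
`a E = -E`, `b E = t E`, `E E = (s + 1)(t + 1)(s² + s t + t²) E`.
-/

set_option autoImplicit false
set_option linter.style.longLine false
set_option linter.unusedSectionVars false
set_option linter.unusedVariables false

namespace Cfsg.Agent.H377.TD

section Alg

variable {R : Type*} [Ring R] [Algebra ℂ R] {s t : ℂ} {a b : R}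

/-- the idempotent, up to a factor -/
def Ee (s : ℂ) (a b : R) : R :=
  s ^ 3 • (1 : R) - s ^ 2 • a + s ^ 3 • b - s ^ 2 • (a * b) - s ^ 2 • (b * a) + s • (a * (b * a)) - s ^ 2 • (b * (a * b))
    + s • (a * (b * (a * b))) + s • (b * (a * (b * a))) - a * (b * (a * (b * a))) + s • (b * (a * (b * (a * b))))
    - a * (b * (a * (b * (a * b))))

theorem aEe (ha : a * a = s • (1 : R) + (s - 1) • a) : a * Ee s a b = - Ee s a b := by
  have ha' : ∀ z : R, a * (a * z) = s • z + (s - 1) • (a * z) := by
    intro z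
    rw [← mul_assoc, ha, add_mul, smul_mul_assoc, smul_mul_assoc, one_mul]
  simp only [Ee, mul_add, mul_sub, mul_smul_comm, ha, ha', mul_one, smul_add]
  module

theorem bEe (hb : b * b = t • (1 : R) + (t - 1) • b) (hab : b * a * b * a * b * a = a * b * a * b * a * b) :
    b * Ee s a b = t • Ee s a b := by
  have hb' : ∀ z : R, b * (b * z) = t • z + (t - 1) • (b * z) := by
    intro z
    rw [← mul_assoc, hb, add_mul, smul_mul_assoc, smul_mul_assoc, one_mul]
  have h1 : b * (a * (b * (a * (b * a)))) = a * (b * (a * (b * (a * b)))) := by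
    simp only [← mul_assoc]; exact hab
  have h2 : b * (a * (b * (a * (b * (a * b))))) = t • (a * (b * (a * (b * a)))) + (t - 1) • (a * (b * (a * (b * (a * b))))) := by
    have e : b * (a * (b * (a * (b * (a * b))))) = (b * (a * (b * (a * (b * a))))) * b := by simp only [mul_assoc]
    rw [e, h1]
    simp only [mul_assoc, hb, mul_add, mul_smul_comm, mul_one]
  simp only [Ee, mul_add, mul_sub, mul_smul_comm, hb, hb', h1, h2, mul_one, smul_add]
  module

theorem Ee_mul {z : R} (ha : a * z = -z) (hb : b * z = t • z) :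
    Ee s a b * z = ((s + 1) * (t + 1) * (s ^ 2 + s * t + t ^ 2)) • z := by
  simp only [Ee, add_mul, sub_mul, smul_mul_assoc, mul_assoc, ha, hb, one_mul, mul_neg, mul_smul_comm, smul_neg, neg_neg]
  module

end Alg

end Cfsg.Agent.H377.TD
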