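import Mathlib

/-!
# The point of the projective line fixed by a Borel subgroup over `PGL₂` (helper377)

`f : P →* PGL₂(F)`, `x0 ∈ P` mapping to a transvection `!![1, t; 0, 1]`, `t ≠ 0`, `b ∈ P` with `f (b x0 b⁻¹)` of the same
form: `f b` fixes the point at infinity.
-/

set_option autoImplicit false
set_option linter.style.longLine false

namespace Cfsg.Agent.H377.TD

open Matrix MulAction
open scoped MatrixGroups LinearAlgebra.Projectivization

section

variable {F : Type*} [Field F]

/-- the point at infinity -/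
noncomputable def inf (F : Type*) [Field F] : ℙ F (Fin 2 → F) :=
  Projectivization.mk F ![1, 0] (by intro h; exact one_ne_zero (congrFun h 0))

theorem fix_iff {g : GL (Fin 2) F} {t : F} (hg : (g : Matrix (Fin 2) (Fin 2) F) = !![1, t; 0, 1]) (ht : t ≠ 0)
    {p : ℙ F (Fin 2 → F)} (h : (ProjGenLinGroup.mk g : ProjGenLinGroup (Fin 2) F) • p = p) : p = inf F := by
  induction p using Projectivization.ind with
  | _ v hv =>
    rw [Projectivization.PGL.mk_smul_mk, Projectivization.mk_eq_mk_iff'] at h
    obtain ⟨a, ha⟩ := h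
    have h0 : a * v 0 = v 0 + t * v 1 := by
      have := congrFun ha 0
      rw [Pi.smul_apply, smul_eq_mul] at this
      rw [this]
      show ((g : Matrix (Fin 2) (Fin 2) F) *ᵥ v) 0 = _
      rw [hg]
      simp [Matrix.mulVec, dotProduct, Fin.sum_univ_two]
    have h1 : a * v 1 = v 1 := by
      have := congrFun ha 1
      rw [Pi.smul_apply, smul_eq_mul] at this
      rw [this]
      show ((g : Matrix (Fin 2) (Fin 2) F) *ᵥ v) 1 = _
      rw [hg]
      simp [Matrix.mulVec, dotProduct, Fin.sum_univ_two]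
    have h2 : v 1 = 0 := by
      by_contra h3
      have h4 : a = 1 := mul_right_cancel₀ h3 (by rw [h1, one_mul])
      rw [h4, one_mul] at h0
      have h5 : t * v 1 = 0 := by linear_combination -h0
      exact (mul_ne_zero ht h3) h5
    rw [inf, Projectivization.mk_eq_mk_iff']
    refine ⟨v 0, ?_⟩
    funext i
    fin_cases i
    · simp
    · simp [h2]

theorem fix_inf {g : GL (Fin 2) F} {t : F} (hg : (g : Matrix (Fin 2) (Fin 2) F) = !![1, t; 0, 1]) :
    (ProjGenLinGroup.mk g : ProjGenLinGroup (Fin 2) F) • inf F = inf F := by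
  rw [inf, Projectivization.PGL.mk_smul_mk, Projectivization.mk_eq_mk_iff']
  refine ⟨1, ?_⟩
  rw [one_smul]
  funext i
  show _ = ((g : Matrix (Fin 2) (Fin 2) F) *ᵥ ![1, 0]) i
  rw [hg]
  fin_cases i <;> simp [Matrix.mulVec, dotProduct, Fin.sum_univ_two]

/-- **The normaliser of the transvections fixes the point at infinity** -/
theorem smul_inf {P : Type*} [Group P] (f : P →* ProjGenLinGroup (Fin 2) F) (x0 b : P)
    (hx0 : ∃ g : GL (Fin 2) F, f x0 = ProjGenLinGroup.mk g ∧ ∃ t : F, t ≠ 0 ∧ (g : Matrix (Fin 2) (Fin 2) F) = !![1, t; 0, 1])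
    (hB : ∃ g : GL (Fin 2) F, f (b * x0 * b⁻¹) = ProjGenLinGroup.mk g ∧
      ∃ t : F, (g : Matrix (Fin 2) (Fin 2) F) = !![1, t; 0, 1]) : f b • inf F = inf F := by
  obtain ⟨g0, hg0, t0, ht0, hg0'⟩ := hx0
  obtain ⟨g, hg, t, hg'⟩ := hB
  have e1 : f (b * x0 * b⁻¹) • (f b • inf F) = f b • inf F := by
    rw [map_mul, map_mul, mul_smul, mul_smul, map_inv, inv_smul_smul, hg0, fix_inf hg0']
  rw [hg] at e1
  by_cases ht : t = 0
  · -- then `x0` maps to `1`
    exfalso
    have e2 : g = 1 := by
      apply Units.ext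
      rw [hg', ht]
      ext i j
      fin_cases i <;> fin_cases j <;> rfl
    rw [e2, map_one, map_mul, map_mul, map_inv] at hg
    have e3 : f x0 = 1 := by
      have := congrArg (fun z => (f b)⁻¹ * z * f b) hg
      simpa [mul_assoc] using this
    -- `x0` fixes everything
    have e4 : ∀ p : ℙ F (Fin 2 → F), p = inf F := by
      intro p
      refine fix_iff hg0' ht0 ?_
      rw [← hg0, e3, one_smul]
    have e5 := e4 (Projectivization.mk F ![0, 1] (by intro h; exact one_ne_zero (congrFun h 1)))
    rw [inf, Projectivization.mk_eq_mk_iff'] at e5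
    obtain ⟨a, ha⟩ := e5
    have := congrFun ha 1
    simp at this
  · exact fix_iff hg' ht e1

end

end Cfsg.Agent.H377.TD
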