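import Cfsg.Agent.H377.TD.Res
import Cfsg.Agent.H83.Eight.TwD4

/-!
# S4933, `³D₄(q)`: a character of degree `q (q⁴ - q² + 1)` whose restriction to the line parabolic contains Steinberg (helper377)

`small_constituent`: if `rho` is an irreducible character of the line parabolic `P = PJ {0}` of `³D₄(q)` which is a
constituent of `St ⊗ St`, `St = (fixed points on P/B) - 1`, then there is an irreducible character `Y` of `³D₄(q)` of
degree `≤ (q (q⁴ - q² + 1))²` whose restriction to `P` contains `rho`.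
-/

set_option autoImplicit false
set_option linter.style.longLine false
set_option linter.unusedSectionVars false
set_option linter.unusedVariables false

namespace Cfsg.Agent.H377.TD

open Module Cfsg Cfsg.Agent.Tits.Core Cfsg.Agent.Tits.Core.Bldg Cfsg.Agent.Tits.Exchange Cfsg.Agent.H249 MulAction
  Cfsg.Agent.H996.Deg Cfsg.Agent.H996.Deg.Hk Cfsg.Agent.H996.Deg.Hex Cfsg.Agent.H996.Deg.IrrRank
  Cfsg.Agent.Characters.Core Cfsg.Agent.PermutationGroups.PermChar Cfsg.Agent.ChevalleyStructure.CoxeterGeom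
  CoxeterSystem Classical

universe u

section E

variable {I W Y C : Type*} [DecidableEq I] [Fintype I] [Group W] [Group Y] {M : CoxeterMatrix I} {A : I → I → ℤ}
  {cs : CoxeterSystem M W} {p : ℕ} [MulAction Y C] {D : Dat Y I p} {Δ : Bldg cs C} {c : C} [Fintype C]

/-- the idempotent -/
theorem exists_e (S : Bd D Δ c) (h : IsCartan M A) {i j : I} (hij : i ≠ j) (hM : M i j = 6) {s t : ℕ}
    (hs : ∀ x, Nat.card {y // Δ.δ x y = cs.simple i} = s) (ht : ∀ x, Nat.card {y // Δ.δ x y = cs.simple j} = t)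
    (hs0 : s ≠ 0) : ∃ e : Matrix C C ℂ, Inv Y e ∧ e * e = e ∧ T Δ (cs.simple i) * e = -e ∧
      e.trace = (s ^ 3 * Fintype.card C) / ((s + 1) * (t + 1) * (s ^ 2 + s * t + t ^ 2)) := by
  have ha := T_sq Δ hs
  have hb := T_sq Δ ht
  obtain ⟨hab, ta, tb, tab, tbab, tabab, tbabab, tababab⟩ := rels h Δ hij hM
  obtain ⟨-, -, -, tba, taba, tbaba, tababa, -⟩ := rels h Δ hij.symm (by rw [M.symmetric, hM])
  obtain ⟨a, hA⟩ : ∃ a, a = T Δ (cs.simple i) := ⟨_, rfl⟩
  obtain ⟨b, hB⟩ : ∃ b, b = T Δ (cs.simple j) := ⟨_, rfl⟩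
  have ia : Inv Y a := hA ▸ inv_T S _
  have ib : Inv Y b := hB ▸ inv_T S _
  simp only [← hA, ← hB, mul_assoc] at ha hb hab ta tb tab tbab tabab tbabab tababab tba taba tbaba tababa ⊢
  obtain ⟨l, hl⟩ : ∃ l : ℂ, l = ((s : ℂ) + 1) * (t + 1) * (s ^ 2 + s * t + t ^ 2) := ⟨_, rfl⟩
  have hl0 : l ≠ 0 := by
    rw [hl]
    have h1 : (s + 1) * (t + 1) * (s ^ 2 + s * t + t ^ 2) ≠ 0 := by positivity
    exact_mod_cast h1
  have e1 : a * Ee (s : ℂ) a b = - Ee (s : ℂ) a b := aEe ha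
  have e2 : b * Ee (s : ℂ) a b = (t : ℂ) • Ee (s : ℂ) a b := bEe hb (by simp only [mul_assoc]; exact hab)
  have e3 : Ee (s : ℂ) a b * Ee (s : ℂ) a b = l • Ee (s : ℂ) a b := by rw [hl]; exact Ee_mul e1 e2
  refine ⟨l⁻¹ • Ee (s : ℂ) a b, ?_, ?_, ?_, ?_⟩
  · refine Inv.smul _ ?_
    have i1 : Inv Y (1 : Matrix C C ℂ) := Inv.one
    have iab := ia.mul ib
    have iba := ib.mul ia
    have iaba := ia.mul iba
    have ibab := ib.mul iab
    have iabab := ia.mul ibab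
    have ibaba := ib.mul iaba
    have iababa := ia.mul ibaba
    have ibabab := ib.mul iabab
    have iababab := ia.mul ibabab
    exact (((((((((((i1.smul _).sub (ia.smul _)).add (ib.smul _)).sub (iab.smul _)).sub (iba.smul _)).add (iaba.smul _)).sub
      (ibab.smul _)).add (iabab.smul _)).add (ibaba.smul _)).sub iababa).add (ibabab.smul _)).sub iababab
  · rw [Matrix.smul_mul, Matrix.mul_smul, e3, smul_smul l⁻¹ l, inv_mul_cancel₀ hl0, one_smul]
  · rw [Matrix.mul_smul, e1, smul_neg]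
  · rw [← mul_assoc ((s : ℂ) + 1), ← hl, Matrix.trace_smul, Ee]
    simp only [Matrix.trace_sub, Matrix.trace_add, Matrix.trace_smul, ta, tb, tab, tbab, tabab, tbabab, tababab, tba,
      taba, tbaba, tababa, Matrix.trace_one, smul_eq_mul, mul_zero, sub_zero, add_zero]
    rw [div_eq_inv_mul]

/-- **The small constituent** -/
theorem small_bd [Fintype Y] (S : Bd D Δ c) (h : IsCartan M A) {i j : I} (hij : i ≠ j) (hM : M i j = 6) {s t : ℕ}
    (hs : ∀ x, Nat.card {y // Δ.δ x y = cs.simple i} = s) (ht : ∀ x, Nat.card {y // Δ.δ x y = cs.simple j} = t)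
    (hs0 : s ≠ 0) {P B : Subgroup Y} [Fintype P] (hP : ∀ g, g ∈ P ↔ Pn Δ c i (g • c)) (hB : ∀ g, g ∈ B ↔ g • c = c)
    {d : ℕ} (hd : d * ((s + 1) * (t + 1) * (s ^ 2 + s * t + t ^ 2)) = s ^ 3 * Nat.card C) {rho : P → ℂ}
    (hr : IsIrrCharacter P rho)
    (h0 : classInner (fun g => (fixedPointCharacter (B.subgroupOf P) g - 1) * (fixedPointCharacter (B.subgroupOf P) g - 1)) rho ≠ 0) :
    ∃ Z : IrrCharacter Y, classInner (fun g : P => (Z : Y → ℂ) g) rho ≠ 0 ∧ charDegree (Z : Y → ℂ) ≤ d ^ 2 := by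
  obtain ⟨e, hI, he, hT, htr⟩ := exists_e S h hij hM hs ht hs0
  have hden : (((s : ℂ) + 1) * (t + 1) * (s ^ 2 + s * t + t ^ 2)) ≠ 0 := by
    have h1 : (s + 1) * (t + 1) * (s ^ 2 + s * t + t ^ 2) ≠ 0 := by positivity
    exact_mod_cast h1
  have htr' : e.trace = d := by
    rw [htr, div_eq_iff hden, ← Nat.card_eq_fintype_card]
    exact_mod_cast hd.symm
  have hne : Nonempty C := ⟨c⟩
  have hC : Fintype.card C ≠ 0 := Fintype.card_ne_zero
  have hd0 : d ≠ 0 := by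
    rintro rfl
    rw [zero_mul] at hd
    have h1 : s ^ 3 * Nat.card C ≠ 0 := mul_ne_zero (pow_ne_zero _ hs0) (by rw [Nat.card_eq_fintype_card]; exact hC)
    exact h1 hd.symm
  have hcc : e c c ≠ 0 := by
    intro h1
    rw [trace_eq S hI, h1, mul_zero] at htr'
    exact hd0 (by exact_mod_cast htr'.symm)
  obtain ⟨hσ, κ, hκ, hres⟩ := res S he hI hT hs hs0 hcc hP hB
  refine common P (isCharacter_ch hI he) hσ hκ hres hr h0 ?_
  rw [ch_one, htr']

end E

open Cfsg.Agent.Tits.Roots Cfsg.Agent.Nodes.Reps Cfsg.Agent.Nodes.BNOf Cfsg.Agent.Nodes.StabComb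
  Cfsg.Agent.Nodes.Bruhat Cfsg.Agent.Nodes.OppDec Cfsg.Agent.Nodes.LeviDec Cfsg.Agent.H249.OfRGD

section RGD

variable {I W Y : Type*} [Fintype I] [DecidableEq I] [Group W] [Group Y] {M : CoxeterMatrix I}
  {cs : CoxeterSystem M W} {A : I → I → ℤ} {h : IsCartan M A} {p : ℕ} {T : Subgroup Y} {n : I → Y}
  {X : (I → ℤ) → Subgroup Y}

/-- the minimal parabolic subgroup is the stabiliser of the panel -/
theorem mem_PJ_iff_pn [Finite W] (R : RGD cs h p T n X) (hp : p.Prime) (hG : GG cs h T X = ⊤)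
    {Δ : Bldg cs (Y ⧸ RGD.B cs h T X)} {c : Y ⧸ RGD.B cs h T X} (S : Bd (dat R hp hG) Δ c) (i : I) (g : Y) :
    g ∈ PJ cs h T X {i} ↔ Pn Δ c i (g • c) := by
  have h1 : g ∈ (dat R hp hG).P i ↔ Pn Δ c i (g • c) := by
    constructor
    · exact fun hg => S.P_stab hg
    · rintro (hg | hg)
      · refine (dat R hp hG).B_le_P i ((S.B g).2 ((Δ.eq_one _ _).1 hg).symm)
      · exact S.mem_P_of hg
  rw [← h1]
  have h2 := H554.RG.eq_PJ R hG (P := (dat R hp hG).P i) (by rw [← dat_B R hp hG]; exact (dat R hp hG).B_le_P i)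
  have h3 : {j | n j ∈ (dat R hp hG).P i} = {i} := by
    ext j
    rw [Set.mem_ofPred_eq, Set.mem_singleton_iff]
    constructor
    · intro hj
      have h4 := S.P_stab hj
      have h5 : Δ.δ c (n j • c) = cs.simple j := S.n j
      rw [h5] at h4
      rcases h4 with h4 | h4
      · have := cs.length_simple j
        rw [h4, cs.length_one] at this
        exact absurd this (by norm_num)
      · by_contra hne
        have e1 : rep cs h (cs.simple i) (sr j) = - sr j := by rw [← h4, rep_simple_sr]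
        have e2 := rep_simple_apply cs h i (sr j) j hne
        rw [e1, Pi.neg_apply, sr_self] at e2
        omega
    · rintro rfl
      exact (dat R hp hG).n_mem_P j
  rw [h2, h3]

/-- **The small constituent, root group data of type `G₂`** -/
theorem small_rgd [Finite W] [Fintype Y] (R : RGD cs h p T n X) (hp : p.Prime) (hG : GG cs h T X = ⊤) {i j : I}
    (hij : i ≠ j) (hM : M i j = 6) {s t : ℕ} (hs : Nat.card (X (sr i)) = s) (ht : Nat.card (X (sr j)) = t)
    [Fintype (PJ cs h T X {i})]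
    {d : ℕ} (hd : d * ((s + 1) * (t + 1) * (s ^ 2 + s * t + t ^ 2)) = s ^ 3 * (RGD.B cs h T X).index)
    {rho : ↥(PJ cs h T X {i}) → ℂ} (hr : IsIrrCharacter (PJ cs h T X {i}) rho)
    (h0 : classInner (fun g => (fixedPointCharacter ((RGD.B cs h T X).subgroupOf (PJ cs h T X {i})) g - 1) *
      (fixedPointCharacter ((RGD.B cs h T X).subgroupOf (PJ cs h T X {i})) g - 1)) rho ≠ 0) :
    ∃ Z : IrrCharacter Y, classInner (fun g : PJ cs h T X {i} => (Z : Y → ℂ) g) rho ≠ 0 ∧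
      charDegree (Z : Y → ℂ) ≤ d ^ 2 := by
  obtain ⟨Δ, S⟩ := exists_bd R hp hG
  have := Fintype.ofFinite (Y ⧸ RGD.B cs h T X)
  have hs' : ∀ x, Nat.card {y // Δ.δ x y = cs.simple i} = s := fun x => (S.card_panel i x).trans hs
  have ht' : ∀ x, Nat.card {y // Δ.δ x y = cs.simple j} = t := fun x => (S.card_panel j x).trans ht
  have hs0 : s ≠ 0 := by rw [← hs]; exact Nat.card_pos.ne'
  exact small_bd S h hij hM hs' ht' hs0 (mem_PJ_iff_pn R hp hG S i) (fun g => by rw [← S.B, dat_B]) hd hr h0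

end RGD

section Frame

open Cfsg.Lie Cfsg.Agent.ChevalleyStructure Cfsg.Agent.Nodes
open Cfsg.Agent.BiChar.TwDFour

variable {K : Type} [Field K] [Fintype K] {q : ℕ} {φ : K →+* K}

/-- the index of the Borel subgroup -/
theorem index_B {p : ℕ} [Fact p.Prime] [CharP K p] (hφ : ∀ x, φ x = x ^ q)
    (hle : twistedD4 K q ≤ D4Fixed.fix φ) (hq : IsPrimePow q) (hK : Fintype.card K = q ^ 3) :
    (RGD.B cs RGDTwD4.isCartan (RGDTwD4.T K q) (RGDTwD4.X φ q)).index =
      (q + 1) * ((q ^ 3 + 1) * (q ^ 8 + q ^ 4 + 1)) := by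
  have : Finite CoxeterMatrix.G₂.Group := RGDChev.finite_W Cfsg.Agent.BiChar.GTwo.isType cs
  have R := RGDTwD4.rgd (K := K) cs hK hφ p
  rw [← Subgroup.relIndex_mul_index (B_le_PJ (cs := cs) (h := RGDTwD4.isCartan) (T := RGDTwD4.T K q)
    (X := RGDTwD4.X φ q) (J := {0})), H115.HC.TwDFour.index_eq' (p := p) hφ hle hq hK,
    H554.RG.relIndex_B_PJ_singleton R 0, H115.HC.TwDFour.card_X0 hφ hle hq.one_lt hK]

/-- **The small constituent for `³D₄(q)`** -/
theorem small_constituent {p : ℕ} [Fact p.Prime] [CharP K p] (hφ : ∀ x, φ x = x ^ q) (hq : IsPrimePow q)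
    (hK : Fintype.card K = q ^ 3) [Fintype ↥(twistedD4 K q)]
    [Fintype ↥(PJ cs RGDTwD4.isCartan (RGDTwD4.T K q) (RGDTwD4.X φ q) {0})]
    {P : ℕ} (hP : P + q ^ 2 = q ^ 4 + 1)
    {rho : ↥(PJ cs RGDTwD4.isCartan (RGDTwD4.T K q) (RGDTwD4.X φ q) {0}) → ℂ}
    (hr : IsIrrCharacter (PJ cs RGDTwD4.isCartan (RGDTwD4.T K q) (RGDTwD4.X φ q) {0}) rho)
    (h0 : classInner (fun g => (fixedPointCharacter ((RGD.B cs RGDTwD4.isCartan (RGDTwD4.T K q) (RGDTwD4.X φ q)).subgroupOf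
        (PJ cs RGDTwD4.isCartan (RGDTwD4.T K q) (RGDTwD4.X φ q) {0})) g - 1) *
      (fixedPointCharacter ((RGD.B cs RGDTwD4.isCartan (RGDTwD4.T K q) (RGDTwD4.X φ q)).subgroupOf
        (PJ cs RGDTwD4.isCartan (RGDTwD4.T K q) (RGDTwD4.X φ q) {0})) g - 1)) rho ≠ 0) :
    ∃ Z : IrrCharacter ↥(twistedD4 K q),
      classInner (fun g : ↥(PJ cs RGDTwD4.isCartan (RGDTwD4.T K q) (RGDTwD4.X φ q) {0}) =>
        (Z : ↥(twistedD4 K q) → ℂ) g) rho ≠ 0 ∧
      charDegree (Z : ↥(twistedD4 K q) → ℂ) ≤ (q * P) ^ 2 := by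
  have hle := D4Fixed.twisted_le_fix hK hφ
  have : Finite CoxeterMatrix.G₂.Group := RGDChev.finite_W Cfsg.Agent.BiChar.GTwo.isType cs
  have R := RGDTwD4.rgd (K := K) cs hK hφ p
  refine small_rgd R (Fact.out) (H115.HC.TwDFour.GG_top hφ hK) (i := 0) (j := 1) (by decide) (by decide)
    (H115.HC.TwDFour.card_X0 hφ hle hq.one_lt hK) (H83.Eight.TwD4.card_X1 hφ hle hK) (d := q * P) ?_ hr h0
  rw [index_B (p := p) hφ hle hq hK]
  zify
  have hP' : (P : ℤ) = (q : ℤ) ^ 4 - (q : ℤ) ^ 2 + 1 := by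
    have : (P : ℤ) + (q : ℤ) ^ 2 = (q : ℤ) ^ 4 + 1 := by exact_mod_cast hP
    linarith
  rw [hP']
  ring

end Frame

end Cfsg.Agent.H377.TD
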